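import Cfsg.Agent.CO2.Defs
import Cfsg.Agent.H3.SympBasis

/-! Alternating maps of rank two. -/

set_option autoImplicit false

namespace Cfsg.Agent.CO2

open H97 H15 H11 CO1 QuadraticMap Module

variable {V : Type*} [AddCommGroup V] [Module (ZMod 2) V] {Q : QuadraticForm (ZMod 2) V}

/-- the form `(u, v) ↦ B(u, N v)` is alternating -/
def C5Alt (Q : QuadraticForm (ZMod 2) V) (N : V →ₗ[ZMod 2] V) : Prop := ∀ u, polar Q u (N u) = 0

theorem C5Alt.adj {N : V →ₗ[ZMod 2] V} (h : C5Alt Q N) (u v : V) : polar Q u (N v) = polar Q (N u) v := by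
  have := h (u + v)
  rw [map_add, polar_add_left, polar_add_right, polar_add_right, h u, h v, zero_add, add_zero,
    polar_comm Q v] at this
  revert this
  generalize polar Q u (N v) = a
  generalize polar Q (N u) v = b
  revert a b; decide

theorem C5Alt.add {N N' : V →ₗ[ZMod 2] V} (h : C5Alt Q N) (h' : C5Alt Q N') : C5Alt Q (N + N') :=
  fun u => by rw [LinearMap.add_apply, polar_add_right, h u, h' u, add_zero]

variable [FiniteDimensional (ZMod 2) V]

theorem C5Alt.even (nd : ND Q) {N : V →ₗ[ZMod 2] V} (h : C5Alt Q N) :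
    ∃ m, finrank (ZMod 2) (LinearMap.range N) = 2 * m := by
  obtain ⟨W, hW⟩ := Submodule.exists_isCompl (LinearMap.ker N)
  have k : ∀ x : W, (∀ y : W, polar Q (x : V) (N y) = 0) → x = 0 := fun x hx => by
    have h1 : N x = 0 := nd _ fun y => by
      obtain ⟨a, ha, b, hb, rfl⟩ := Submodule.mem_sup.1 (hW.sup_eq_top.ge (Submodule.mem_top (x := y)))
      rw [← h.adj, map_add, LinearMap.mem_ker.1 ha, zero_add]
      exact hx ⟨b, hb⟩
    exact Subtype.ext ((Submodule.disjoint_def.1 hW.disjoint) _ h1 x.2)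
  obtain ⟨m, hm⟩ := H3.even_finrank_of_isAlt
    (LinearMap.BilinForm.restrict (LinearMap.BilinForm.compRight (polarBilin Q) N) W)
    (fun x => h x) ⟨fun x hx => k x hx, fun x hx => k x fun y => by
      rw [h.adj, polar_comm]; exact hx y⟩
  refine ⟨m, ?_⟩
  have h1 := LinearMap.finrank_range_add_finrank_ker N
  have h2 := Submodule.finrank_add_eq_of_isCompl hW
  omega

theorem C5Alt.two_le (nd : ND Q) {N : V →ₗ[ZMod 2] V} (h : C5Alt Q N) (h0 : N ≠ 0) :
    2 ≤ finrank (ZMod 2) (LinearMap.range N) := by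
  obtain ⟨m, hm⟩ := h.even nd
  have : finrank (ZMod 2) (LinearMap.range N) ≠ 0 := fun e =>
    h0 (LinearMap.range_eq_bot.1 (Submodule.finrank_eq_zero.1 e))
  omega

theorem C5Alt.meet (nd : ND Q) {N N' : V →ₗ[ZMod 2] V} (h : C5Alt Q N) (h' : C5Alt Q N') (h0 : N ≠ 0)
    (h0' : N' ≠ 0) (hr : finrank (ZMod 2) (LinearMap.range (N + N')) ≤ 2) :
    LinearMap.range N ⊓ LinearMap.range N' ≠ ⊥ := fun e => by
  have h1 := Submodule.finrank_sup_add_finrank_inf_eq (LinearMap.range N) (LinearMap.range N')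
  rw [e, finrank_bot] at h1
  have h2 := h.two_le nd h0
  have h3 := h'.two_le nd h0'
  have h4 := LinearMap.BilinForm.finrank_orthogonal nd.nondegenerate
    (LinearMap.range N ⊔ LinearMap.range N')
  have h5 : LinearMap.ker (N + N') ≤
      LinearMap.BilinForm.orthogonal (polarBilin Q) (LinearMap.range N ⊔ LinearMap.range N') := by
    intro x hx y hy
    have e1 : N x = N' x := vadd_eq_zero.1 hx
    have e2 : N x = 0 := (Submodule.eq_bot_iff _).1 e _ ⟨⟨x, rfl⟩, ⟨x, e1.symm⟩⟩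
    obtain ⟨_, ⟨a, rfl⟩, _, ⟨b, rfl⟩, rfl⟩ := Submodule.mem_sup.1 hy
    change polar Q (N a + N' b) x = 0
    rw [polar_add_left, ← h.adj, ← h'.adj, ← e1, e2, polar_zero_right, polar_zero_right, add_zero]
  have h6 := Submodule.finrank_mono h5
  have h7 := LinearMap.finrank_range_add_finrank_ker (N + N')
  have h8 := Submodule.finrank_le (LinearMap.range N ⊔ LinearMap.range N')
  omega

theorem c5_planes {A B C E : Submodule (ZMod 2) V} (hA : finrank (ZMod 2) A ≤ 2) (hB : finrank (ZMod 2) B ≤ 2)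
    (hC : finrank (ZMod 2) C ≤ 2) (hE : finrank (ZMod 2) E ≤ 2) (h1 : E ⊓ A ≠ ⊥) (h2 : E ⊓ B ≠ ⊥)
    (h3 : E ⊓ C ≠ ⊥) : finrank (ZMod 2) (A ⊔ B ⊔ C : Submodule (ZMod 2) V) ≤ 5 := by
  by_contra hno
  have a1 := Submodule.finrank_sup_add_finrank_inf_eq A B
  have a2 := Submodule.finrank_sup_add_finrank_inf_eq (A ⊔ B) C
  have b1 : A ⊓ B = ⊥ := Submodule.finrank_eq_zero.1 (by omega)
  have b2 : (A ⊔ B) ⊓ C = ⊥ := Submodule.finrank_eq_zero.1 (by omega)
  have a3 := Submodule.finrank_sup_add_finrank_inf_eq (E ⊓ A) (E ⊓ B)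
  rw [show E ⊓ A ⊓ (E ⊓ B) = ⊥ from eq_bot_iff.2 ((inf_le_inf inf_le_right inf_le_right).trans b1.le),
    finrank_bot] at a3
  have c1 : finrank (ZMod 2) (E ⊓ A : Submodule (ZMod 2) V) ≠ 0 := fun e => h1 (Submodule.finrank_eq_zero.1 e)
  have c2 : finrank (ZMod 2) (E ⊓ B : Submodule (ZMod 2) V) ≠ 0 := fun e => h2 (Submodule.finrank_eq_zero.1 e)
  have e : E ⊓ A ⊔ E ⊓ B = E :=
    Submodule.eq_of_le_of_finrank_le (sup_le inf_le_left inf_le_left) (by omega)
  exact h3 (eq_bot_iff.2 ((inf_le_inf_right C (e.ge.trans (sup_le_sup inf_le_right inf_le_right))).trans b2.le))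

theorem c5_lin (nd : ND Q) {N1 N2 N12 N3 w : V →ₗ[ZMod 2] V} (a1 : C5Alt Q N1) (a2 : C5Alt Q N2)
    (a12 : C5Alt Q N12) (a3 : C5Alt Q N3) (n1 : N1 ≠ 0) (n2 : N2 ≠ 0) (n12 : N12 ≠ 0) (n3 : N3 ≠ 0)
    (r1 : finrank (ZMod 2) (LinearMap.range N1) ≤ 2) (r2 : finrank (ZMod 2) (LinearMap.range N2) ≤ 2)
    (r12 : finrank (ZMod 2) (LinearMap.range N12) ≤ 2) (r3 : finrank (ZMod 2) (LinearMap.range N3) ≤ 2)
    (s1 : finrank (ZMod 2) (LinearMap.range (N3 + N1)) ≤ 2)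
    (s2 : finrank (ZMod 2) (LinearMap.range (N3 + N2)) ≤ 2)
    (s12 : finrank (ZMod 2) (LinearMap.range (N3 + N12)) ≤ 2) (hw : w = N1 + N2 + N12)
    (hk : LinearMap.ker w = LinearMap.range w) (hV : 4 < finrank (ZMod 2) V) : finrank (ZMod 2) V = 8 := by
  have h1 := c5_planes r1 r2 r12 r3 (a3.meet nd a1 n3 n1 s1) (a3.meet nd a2 n3 n2 s2)
    (a3.meet nd a12 n3 n12 s12)
  have h2 : LinearMap.range w ≤ LinearMap.range N1 ⊔ LinearMap.range N2 ⊔ LinearMap.range N12 := by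
    rintro _ ⟨v, rfl⟩
    rw [hw]
    exact Submodule.add_mem_sup (Submodule.add_mem_sup ⟨v, rfl⟩ ⟨v, rfl⟩) ⟨v, rfl⟩
  have h3 := Submodule.finrank_mono h2
  have h4 := LinearMap.finrank_range_add_finrank_ker w
  obtain ⟨m, hm⟩ := (hw ▸ (a1.add a2).add a12 : C5Alt Q w).even nd
  rw [hk] at h4
  omega

end Cfsg.Agent.CO2
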