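import Cfsg.Agent.CO2.Defs
import Cfsg.Agent.CO2.C512a

set_option autoImplicit false

namespace Cfsg.Agent.CO2

open Subgroup H97 H15 H11 CO1 QuadraticMap H4.GF
open scoped commutatorElement

theorem card_512 {G : Type*} [Group G] [Finite G] {z d : G} (c : WB (cls z) Oz) (hd : d ∈ cls z)
    (t : T1 Oz z d) : Nat.card (Oz z) = 512 := by
  classical
  have hz := self_mem_cls z
  have p := t.p
  have L := p.lz
  have R := p.ld
  obtain ⟨V, _, _, _, Q, π, ρ, nd, hc, X⟩ := exists_cx L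
  obtain ⟨N, hN0⟩ : ∃ N : G → V →ₗ[ZMod 2] V, ∀ b v, N b v = ap (ρ b) v + v :=
    ⟨fun b => (ρ b).1.toLinearMap + LinearMap.id, fun _ _ => rfl⟩
  have hN : ∀ b, b * z = z * b → ∀ q ∈ Oz z, N b (π q) = π ⁅b, q⁆ := fun b hb q hq => by
    rw [hN0, ← X.act b (mem_Cz.2 hb) q hq, commutatorElement_def,
      X.add _ (L.norm b hb q hq) _ (inv_mem hq), X.π_inv hq]
  have hpA := fun m hm H => perpI L R.sq p.cm t.tz (m := m) hm H
  have hpB := fun m hm H => perpI R L.sq p.cm.symm t.td (m := m) hm H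
  have hBA : ∀ b ∈ CA (Oz d) z, ∀ q ∈ Oz z, ⁅b, q⁆ ∈ CA (Oz z) d := fun b hb q hq =>
    (hpA _ (cm_mem L (mem_CA.1 hb).2 hq) fun a ha =>
      adj0 L (mem_CA.1 hb).2 hq ha.1 (WC.cen_of_E p t.one ha hb)).1
  have hfix : ∀ b ∈ CA (Oz d) z, ∀ a ∈ CA (Oz z) d, N b (π a) = 0 := fun b hb a ha => by
    rw [hN b (mem_CA.1 hb).2 a ha.1, commutatorElement_eq_one_iff_mul_comm.2 (WC.cen_of_E p t.one ha hb),
      X.π_one]
  have alt : ∀ b ∈ CA (Oz d) z, C5Alt Q (N b) := fun b hb u => by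
    obtain ⟨q, hq, rfl⟩ := X.surj u
    have m := hBA b hb q hq
    have h1 := (X.sq_iff m.1).1 (t.sqA _ m)
    rw [← hN b (mem_CA.1 hb).2 q hq, hN0, Q_add, Q_ap, z2_add, zero_add] at h1
    rw [hN0, polar_add_right, polar_comm, h1, polar_self', zero_add, show (2 : ZMod 2) = 0 from rfl, zero_mul]
  have add : ∀ b ∈ CA (Oz d) z, ∀ b' ∈ CA (Oz d) z, N (b * b') = N b + N b' := fun b hb b' hb' => by
    ext u
    obtain ⟨q, hq, rfl⟩ := X.surj u
    have h1 := hfix b hb _ (hBA b' hb' q hq)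
    rw [← hN b' (mem_CA.1 hb').2 q hq, hN0, vadd_eq_zero, hN0, ap_add] at h1
    rw [LinearMap.add_apply, hN0, hN0, hN0,
      X.ρ_mul (mem_Cz.2 (mem_CA.1 hb).2) (mem_Cz.2 (mem_CA.1 hb').2), ap_mul, ← h1,
      add_comm (ap (ρ b) (π q) + π q), add_assoc, vadd_cancel]
  have ne : ∀ b ∈ CA (Oz d) z, b ≠ 1 → N b ≠ 0 := fun b hb n e => n (t.one b
    ((X.ρ_eq_one (mem_Cz.2 (mem_CA.1 hb).2)).1 (OG_ext fun v => by
      have := LinearMap.congr_fun e v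
      rwa [hN0, LinearMap.zero_apply, vadd_eq_zero] at this)) hb.1)
  have rk : ∀ r ∈ Oz d, Module.finrank (ZMod 2) (LinearMap.range (N ⁅z, r⁆)) ≤ 2 := fun r hr => by
    have hb := t.img_mem hr
    by_cases n : ⁅z, r⁆ = 1
    · have : N ⁅z, r⁆ = 0 := by
        ext v; rw [hN0, n, X.ρ_one, ap_one, vadd_self]; rfl
      rw [this, LinearMap.range_zero, finrank_bot]; omega
    have t4 := c.t4_of_t1 hz hd t hr n
    have hy := c.conj z hz r
    have e : r * z * r⁻¹ = z * ⁅z, r⁆ := (cm_inv_eq L.sq).1 rfl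
    have eN : N ⁅z, r⁆ = N (r * z * r⁻¹) := by
      ext v
      rw [hN0, hN0, e, X.ρ_mul X.zC (mem_Cz.2 (mem_CA.1 hb).2), (X.ρ_eq_one X.zC).2 L.mem, one_mul]
    obtain ⟨e1, h1, e2, h2, n1, n2, n12⟩ := t4.two
    have le : LinearMap.range (N ⁅z, r⁆) ≤ Submodule.span (ZMod 2) (({π e1, π e2} : Finset V) : Set V) := by
      rintro _ ⟨u, rfl⟩
      obtain ⟨q, hq, rfl⟩ := X.surj u
      have m1 : π e1 ∈ Submodule.span (ZMod 2) (({π e1, π e2} : Finset V) : Set V) :=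
        Submodule.subset_span (by simp)
      have m2 : π e2 ∈ Submodule.span (ZMod 2) (({π e1, π e2} : Finset V) : Set V) :=
        Submodule.subset_span (by simp)
      rw [eN, hN _ t4.p.cm q hq]
      rcases c.cm_cases hz hy t4 hq with f | ⟨e3, h3, n3, f, -⟩ <;> rw [f]
      · rw [X.π_one]; exact zero_mem _
      rw [X.π_zmul h3.1]
      by_cases f1 : e3 = e1
      · rwa [f1]
      by_cases f2 : e3 = e2
      · rwa [f2]
      rw [c.p2c hy t4.p t4.tz h1 h2 h3 n1 n2 n3 n12 f1 f2, X.add _ h2.1 _ h1.1]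
      exact add_mem m2 m1
    exact (Submodule.finrank_mono le).trans ((finrank_span_finset_le_card _).trans Finset.card_le_two)
  have self : ∀ r ∈ Oz d, sg r ⁅z, r⁆ = 0 := fun r hr => by
    have h1 := theta_inv R hr p.cm.symm
    rw [← commutatorElement_inv, inv_inv,
      inv_eq_of_mul_eq_one_right (t.symm.sqA _ (t.img_mem hr)), mul_inv_eq_iff_eq_mul] at h1
    exact sg_eq_zero.2 h1
  have nd' : ∀ r ∈ Oz d, ⁅z, r⁆ ≠ d := fun r hr e =>
    t.td r hr (((cm_inv_eq L.sq).1 e).trans p.cm.symm)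
  have memB : ∀ r ∈ Oz d, ⁅z, r⁆ = 1 → r ∈ CA (Oz d) z := fun r hr e =>
    mem_CA.2 ⟨hr, (commutatorElement_eq_one_iff_mul_comm.1 e).symm⟩
  have cB := t.symm.cardA
  have big := c.big d hd
  have mul0 : ∀ r r' : G, sg r ⁅z, r'⁆ = 0 → ⁅z, r * r'⁆ = ⁅z, r⁆ * ⁅z, r'⁆ := fun r r' s => by
    rw [cm_mul, sg_eq_zero.1 s, mul_inv_cancel_right]
  obtain ⟨r1, hr1, n1⟩ : ∃ r ∈ Oz d, r ∉ CA (Oz d) z := by
    by_contra hno
    push Not at hno
    have h1 := card_le_of_le (show Oz d ≤ CA (Oz d) z from hno)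
    nlinarith
  obtain ⟨r2, hr2, s12⟩ : ∃ r ∈ Oz d, sg r1 ⁅z, r⁆ = 1 := by
    by_contra hno
    push Not at hno
    refine n1 (hpB r1 hr1 fun b hb => ?_).1
    obtain ⟨-, r, hr, f | f⟩ := hpB b hb.1 fun b' hb' => sg_eq_zero.2 (comm_of_sq t.symm.sqA b hb b' hb')
    · rw [f]; exact sg_ne_one (hno r hr)
    · rw [f, sg_zmul_right R hr1 (t.img_mem hr).1]; exact sg_ne_one (hno r hr)
  have b1 := t.img_mem hr1
  have b2 := t.img_mem hr2
  have b12 := t.img_mem (mul_mem hr1 hr2)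
  have m1 : ⁅z, r1⁆ ≠ 1 := fun e => n1 (memB r1 hr1 e)
  have m2 : ⁅z, r2⁆ ≠ 1 := fun e => by rw [e, sg_one_right] at s12; exact zero_ne_one s12
  have m12 : ⁅z, r1 * r2⁆ ≠ 1 := fun e => by
    have := sg_eq_zero.2 (comm_of_sq t.symm.sqA _ (memB _ (mul_mem hr1 hr2) e) _ b2)
    rw [sg_mul_left R hr1 hr2 b2.1, s12, self r2 hr2] at this
    exact absurd this (by decide)
  have e12 : ⁅z, r1 * r2⁆ = ⁅z, r1⁆ * (d * ⁅z, r2⁆) := by
    rw [cm_mul, (sg_one_iff R hr1 b2.1).1 s12]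
  obtain ⟨r3, ⟨h31, h32⟩, n3⟩ : ∃ r ∈ CA (Oz d) ⁅z, r1⁆ ⊓ CA (Oz d) ⁅z, r2⁆, r ∉ CA (Oz d) z := by
    by_contra hno
    push Not at hno
    have h1 := card_le_of_le (show CA (Oz d) ⁅z, r1⁆ ⊓ CA (Oz d) ⁅z, r2⁆ ≤ CA (Oz d) z from hno)
    have h2 := card_cent2 R b1.1 b2.1 m1 (nd' r1 hr1) m2 (nd' r2 hr2)
    nlinarith
  have hr3 : r3 ∈ Oz d := h31.1
  have b3 := t.img_mem hr3
  have s1 := sg_eq_zero.2 (mem_CA.1 h31).2
  have s2 := sg_eq_zero.2 (mem_CA.1 h32).2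
  have s3 : sg r3 ⁅z, r1 * r2⁆ = 0 := by
    rw [e12, sg_mul_right R hr3 b1.1 (mul_mem R.mem b2.1), sg_zmul_right R hr3 b2.1, s1, s2, add_zero]
  have hdB : d ∈ CA (Oz d) z := p.symm.z_mem
  have h8 := c5_lin nd (w := N d) (alt _ b1) (alt _ b2) (alt _ b12) (alt _ b3) (ne _ b1 m1) (ne _ b2 m2)
    (ne _ b12 m12) (ne _ b3 fun e => n3 (memB r3 hr3 e)) (rk r1 hr1) (rk r2 hr2)
    (rk _ (mul_mem hr1 hr2)) (rk r3 hr3)
    (by rw [← add _ b3 _ b1, ← mul0 _ _ s1]; exact rk _ (mul_mem hr3 hr1))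
    (by rw [← add _ b3 _ b2, ← mul0 _ _ s2]; exact rk _ (mul_mem hr3 hr2))
    (by rw [← add _ b3 _ b12, ← mul0 _ _ s3]; exact rk _ (mul_mem hr3 (mul_mem hr1 hr2)))
    (by
      rw [e12, add _ b1 _ (mul_mem hdB b2), add _ hdB _ b2, add_add_add_comm, vadd_self, zero_add,
        add_comm (N d), vadd_cancel])
    (by
      ext u
      obtain ⟨q, hq, rfl⟩ := X.surj u
      constructor
      · intro h
        rw [LinearMap.mem_ker, hN d p.cm q hq, X.ker _ (cm_mem L p.cm hq)] at h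
        have hA := hatI R.sq p.cm t.tz hq h
        obtain ⟨-, r, hr, f | f⟩ := hpA q hq fun a ha => sg_eq_zero.2 (comm_of_sq t.sqA q hA a ha)
        · exact ⟨π r, by rw [hN d p.cm r hr, f]⟩
        · exact ⟨π r, by rw [hN d p.cm r hr, f, X.π_zmul (cm_mem L p.cm hr)]⟩
      · rintro ⟨u, e⟩
        obtain ⟨r, hr, rfl⟩ := X.surj u
        rw [LinearMap.mem_ker, ← e, hN d p.cm r hr]
        exact hfix d hdB _ (hBA d hdB r hr))
    (by
      by_contra hno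
      have h1 := c.big z hz
      rw [hc, Module.natCard_eq_pow_finrank (K := ZMod 2), Nat.card_zmod] at h1
      have := Nat.pow_le_pow_right (show 0 < 2 by norm_num) (not_lt.1 hno)
      omega)
  rw [hc, Module.natCard_eq_pow_finrank (K := ZMod 2), Nat.card_zmod, h8]
  norm_num

end Cfsg.Agent.CO2
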